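import Groth.Agent.FpqcDescLib.Basic
import Groth.Agent.AlgSpDec.SchDenseFacts
import Groth.Prelude.Def_CInt
import Groth.Prelude.Def_SGA3x

/-! Universally schematically dense opens and extension of morphisms into group schemes. -/

set_option autoImplicit false
set_option linter.style.haveILetI false
set_option linter.unusedSectionVars false

universe u

open CategoryTheory CategoryTheory.Limits MonoidalCategory CartesianMonoidalCategory MonObj GrpObj AlgebraicGeometry

attribute [local instance] CategoryTheory.Hom.monoid CategoryTheory.Hom.group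

namespace Groth.Agent.Deform.UDense

/-- A schematically dense open meets every non-empty open. -/
theorem nonempty_inf {X : Scheme.{u}} {U : X.Opens} (h : CInt.IsSchematicallyDense U) {V : X.Opens} {x : X}
    (hx : x ∈ V) : ∃ y, y ∈ V ∧ y ∈ U := by
  by_contra hne
  push_neg at hne
  have he : V ⊓ U = ⊥ := eq_bot_iff.mpr fun y hy => (hne y hy.1 hy.2).elim
  haveI : Subsingleton Γ(X, V ⊓ U) := by
    rw [he]
    exact CommRingCat.subsingleton_of_isTerminal X.sheaf.isTerminalOfEmpty
  have h1 : (1 : Γ(X, V)) = 0 := h V (Subsingleton.elim _ _)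
  have h2 := congrArg (X.presheaf.germ V x hx).hom h1
  rw [map_one, map_zero] at h2
  exact one_ne_zero h2

/-- Open immersions preserve schematic density. -/
theorem preimage_openImm {X Y : Scheme.{u}} (j : Y ⟶ X) [IsOpenImmersion j] {U : X.Opens}
    (h : CInt.IsSchematicallyDense U) : CInt.IsSchematicallyDense (j ⁻¹ᵁ U) := by
  intro V
  rw [injective_iff_map_eq_zero]
  intro s hs
  obtain ⟨t, rfl⟩ : ∃ t, (j.appIso V).hom.hom t = s :=
    ⟨(j.appIso V).inv.hom s, by rw [← CommRingCat.comp_apply, Iso.inv_hom_id]; rfl⟩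
  suffices t = 0 by rw [this, map_zero]
  have hle : j ''ᵁ (V ⊓ j ⁻¹ᵁ U) ≤ j ''ᵁ V := (j.opensFunctor.map (homOfLE inf_le_left)).le
  have h1 : (X.presheaf.map (homOfLE hle).op).hom t = 0 := by
    have hn := congrArg (fun k => k.hom t) (j.appIso_hom_naturality
      (homOfLE (inf_le_left : V ⊓ j ⁻¹ᵁ U ≤ V)).op)
    simp only [CommRingCat.hom_comp, RingHom.comp_apply] at hn
    rw [hs] at hn
    have h2 := congrArg (j.appIso (V ⊓ j ⁻¹ᵁ U)).inv.hom hn
    rw [map_zero, ← CommRingCat.comp_apply, Iso.hom_inv_id] at h2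
    exact h2
  refine h (j ''ᵁ V) ?_
  rw [map_zero]
  have hle' : j ''ᵁ V ⊓ U ≤ j ''ᵁ (V ⊓ j ⁻¹ᵁ U) := by
    rintro _ ⟨⟨v, hv, rfl⟩, hU⟩
    exact ⟨v, ⟨hv, hU⟩, rfl⟩
  rw [show (homOfLE (inf_le_left : j ''ᵁ V ⊓ U ≤ j ''ᵁ V)).op = (homOfLE hle).op ≫ (homOfLE hle').op from rfl,
    Functor.map_comp, CommRingCat.comp_apply, h1, map_zero]

/-- A flat, locally finitely presented surjection is a covering. -/
theorem covers_fppf {X Y : Scheme.{u}} (p : X ⟶ Y) [Flat p] [LocallyOfFinitePresentation p] [Surjective p] :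
    FpqcDescLib.Covers p := by
  refine FpqcDescLib.covers_of_isCovering (FpqcDescLib.isCovering_of_flat p fun V hV => ?_)
  haveI : UniversallyOpen p := inferInstance
  have hcov : ∀ x : p ⁻¹ᵁ V, ∃ W : X.Opens, IsAffineOpen W ∧ x.1 ∈ W ∧ W ≤ p ⁻¹ᵁ V := fun x => by
    obtain ⟨W, hW, hxW, hWV⟩ := exists_isAffineOpen_mem_and_subset (x := x.1) (U := p ⁻¹ᵁ V) x.2
    exact ⟨W, hW, hxW, hWV⟩
  choose W hW hxW hWV using hcov
  obtain ⟨t, ht⟩ := hV.isCompact.elim_finite_subcover (fun x : p ⁻¹ᵁ V => p '' (W x : Set X))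
    (fun x => p.isOpenMap _ (W x).2) fun y hy => by
      obtain ⟨x, rfl⟩ := Surjective.surj (f := p) y
      exact Set.mem_iUnion.mpr ⟨⟨x, hy⟩, x, hxW ⟨x, hy⟩, rfl⟩
  refine ⟨⨆ x ∈ t, W x, ?_, ?_⟩
  · simp only [TopologicalSpace.Opens.iSup_mk, TopologicalSpace.Opens.coe_iSup, TopologicalSpace.Opens.coe_mk]
    exact t.finite_toSet.isCompact_biUnion fun x _ => (hW x).isCompact
  · refine Set.Subset.antisymm ?_ fun y hy => ?_
    · rintro _ ⟨x, hx, rfl⟩
      obtain ⟨i, hi⟩ := TopologicalSpace.Opens.mem_iSup.mp hx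
      obtain ⟨-, hi⟩ := TopologicalSpace.Opens.mem_iSup.mp hi
      exact hWV i hi
    · obtain ⟨i, hi, x, hx, rfl⟩ := Set.mem_iUnion₂.mp (ht hy)
      exact ⟨x, TopologicalSpace.Opens.mem_iSup.mpr ⟨i, TopologicalSpace.Opens.mem_iSup.mpr ⟨hi, hx⟩⟩, rfl⟩

/-- A rational point is closed. -/
theorem isClosed_range_section {K : Type u} [Field K] {Y : Scheme.{u}} (p : Y ⟶ Spec (CommRingCat.of K))
    (t : Spec (CommRingCat.of K) ⟶ Y) (h : t ≫ p = 𝟙 _) : IsClosed (Set.range t) := by
  have hcov : TopologicalSpace.IsOpenCover (fun V : Y.affineOpens => V.1) := iSup_affineOpens_eq_top Y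
  rw [hcov.isClosed_iff_coe_preimage]
  intro V
  by_cases hm : ∀ q, t q ∈ V.1
  · have hr : Set.range t ⊆ Set.range V.1.ι := by
      rw [Scheme.Opens.range_ι]; rintro _ ⟨q, rfl⟩; exact hm q
    let t' := IsOpenImmersion.lift V.1.ι t hr
    haveI : IsAffine (V.1 : Scheme.{u}) := V.2
    haveI : IsClosedImmersion (t' ≫ V.1.ι ≫ p) := by
      rw [IsOpenImmersion.lift_fac_assoc, h]; infer_instance
    haveI : IsClosedImmersion t' := IsClosedImmersion.of_comp t' (V.1.ι ≫ p)
    suffices h' : (Subtype.val : V.1 → Y) ⁻¹' Set.range t = Set.range t' by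
      rw [h']; exact t'.isClosedEmbedding.isClosed_range
    refine Set.ext fun w => ?_
    constructor
    · rintro ⟨q, hq⟩
      refine ⟨q, V.1.ι.isOpenEmbedding.injective ?_⟩
      rw [← Scheme.Hom.comp_apply, IsOpenImmersion.lift_fac]
      exact hq
    · rintro ⟨q, rfl⟩
      refine ⟨q, ?_⟩
      show t q = V.1.ι (t' q)
      rw [← Scheme.Hom.comp_apply t', IsOpenImmersion.lift_fac]
  · push_neg at hm
    obtain ⟨q₀, hq₀⟩ := hm
    convert isClosed_empty
    refine Set.eq_empty_iff_forall_notMem.mpr fun w hw => ?_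
    obtain ⟨q, hq⟩ := hw
    rw [Subsingleton.elim (α := PrimeSpectrum K) q q₀] at hq
    exact hq₀ (hq.symm ▸ Subtype.mem w)

variable {S : Scheme.{u}}

/-- An open part, as a scheme over the base. -/
noncomputable def inclU {X : Over S} (U : X.left.Opens) : Over.mk (U.ι ≫ X.hom) ⟶ X := Over.homMk U.ι rfl

instance {X : Over S} (U : X.left.Opens) : IsOpenImmersion (inclU U).left := inferInstanceAs (IsOpenImmersion U.ι)

instance {X : Over S} (U : X.left.Opens) : Mono (inclU U) := by
  haveI : Mono (inclU U).left := inferInstanceAs (Mono U.ι)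
  exact Over.mono_of_mono_left _

theorem exists_lift_inclU {X Y : Over S} (h : Y ⟶ X) (U : X.left.Opens) (hU : ∀ y, h.left y ∈ U) :
    ∃ h' : Y ⟶ Over.mk (U.ι ≫ X.hom), h' ≫ inclU U = h := by
  have hr : Set.range h.left ⊆ Set.range U.ι := by
    rw [Scheme.Opens.range_ι]; rintro _ ⟨y, rfl⟩; exact hU y
  refine ⟨Over.homMk (IsOpenImmersion.lift U.ι h.left hr) ?_, Over.OverMorphism.ext (IsOpenImmersion.lift_fac _ _ _)⟩
  show IsOpenImmersion.lift U.ι h.left hr ≫ U.ι ≫ X.hom = Y.hom
  rw [IsOpenImmersion.lift_fac_assoc]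
  exact Over.w h

set_option maxHeartbeats 800000

/-- Schematically dense after every base change. -/
def UD {X : Over S} (U : X.left.Opens) : Prop :=
  ∀ (S' : Scheme.{u}) (g : S' ⟶ S), CInt.IsSchematicallyDense (pullback.fst X.hom g ⁻¹ᵁ U)

theorem UD.inf {X : Over S} {U V : X.left.Opens} (hU : UD U) (hV : UD V) : UD (U ⊓ V) := fun S' g => by
  rw [Scheme.Hom.preimage_inf]
  exact AlgSpDec.SchDenseFacts.inf (X := pullback X.hom g) (hU S' g) (hV S' g)

theorem UD.mono {X : Over S} {U V : X.left.Opens} (hU : UD U) (h : U ≤ V) : UD V := by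
  intro S' g W
  have hle : W ⊓ pullback.fst X.hom g ⁻¹ᵁ U ≤ W ⊓ pullback.fst X.hom g ⁻¹ᵁ V :=
    inf_le_inf_left _ fun z hz => h hz
  intro a b hab
  refine hU S' g W ?_
  rw [show (homOfLE (inf_le_left : W ⊓ pullback.fst X.hom g ⁻¹ᵁ U ≤ W)).op =
      (homOfLE (inf_le_left : W ⊓ pullback.fst X.hom g ⁻¹ᵁ V ≤ W)).op ≫ (homOfLE hle).op from rfl,
    Functor.map_comp, CommRingCat.comp_apply, CommRingCat.comp_apply, hab]

theorem UD.preimage {X Y : Over S} {U : X.left.Opens} (hU : UD U) (j : Y ⟶ X) [IsOpenImmersion j.left] :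
    UD (j.left ⁻¹ᵁ U) := by
  intro S' g
  haveI : IsOpenImmersion ((Over.pullback g).map j).left :=
    MorphismProperty.baseChange_map (P := @IsOpenImmersion) g j ‹_›
  have h := preimage_openImm ((Over.pullback g).map j).left (hU S' g)
  have e : pullback.fst Y.hom g ≫ j.left = ((Over.pullback g).map j).left ≫ pullback.fst X.hom g := by
    simp only [Over.pullback_map_left, pullback.lift_fst]
  rw [← Scheme.Hom.comp_preimage] at h ⊢
  rw [e]
  exact h

theorem UD.fst {X : Over S} {U : X.left.Opens} (hU : UD U) (Z : Over S) :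
    UD ((fst X Z).left ⁻¹ᵁ U) := by
  intro S' g
  let q : pullback Z.hom g ⟶ S := pullback.snd Z.hom g ≫ g
  have hw : (pullback.fst X.hom Z.hom ≫ X.hom) = pullback.snd X.hom Z.hom ≫ Z.hom := pullback.condition
  let Φ : pullback (X ⊗ Z).hom g ⟶ pullback X.hom q :=
    pullback.lift (pullback.fst (X ⊗ Z).hom g ≫ pullback.fst X.hom Z.hom)
      (pullback.lift (pullback.fst (X ⊗ Z).hom g ≫ pullback.snd X.hom Z.hom) (pullback.snd (X ⊗ Z).hom g) (by
        rw [Category.assoc, ← hw]; exact pullback.condition (f := (X ⊗ Z).hom) (g := g)))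
      (by
        simp only [q, pullback.lift_snd_assoc, Category.assoc]
        exact pullback.condition (f := (X ⊗ Z).hom) (g := g))
  let Ψ : pullback X.hom q ⟶ pullback (X ⊗ Z).hom g :=
    pullback.lift (pullback.lift (pullback.fst X.hom q) (pullback.snd X.hom q ≫ pullback.fst Z.hom g) (by
      rw [pullback.condition, Category.assoc, pullback.condition]))
      (pullback.snd X.hom q ≫ pullback.snd Z.hom g) (by
      show pullback.lift _ _ _ ≫ pullback.fst X.hom Z.hom ≫ X.hom = _
      rw [pullback.lift_fst_assoc, pullback.condition, Category.assoc])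
  have p1 : Φ ≫ pullback.fst X.hom q = pullback.fst _ _ ≫ pullback.fst X.hom Z.hom := pullback.lift_fst _ _ _
  have p2 : Φ ≫ pullback.snd X.hom q ≫ pullback.fst Z.hom g = pullback.fst _ _ ≫ pullback.snd X.hom Z.hom := by
    rw [pullback.lift_snd_assoc, pullback.lift_fst]
  have p3 : Φ ≫ pullback.snd X.hom q ≫ pullback.snd Z.hom g = pullback.snd _ _ := by
    rw [pullback.lift_snd_assoc, pullback.lift_snd]
  have r1 : Ψ ≫ pullback.fst (X ⊗ Z).hom g ≫ pullback.fst X.hom Z.hom = pullback.fst X.hom q :=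
    (pullback.lift_fst_assoc _ _ _ _).trans (pullback.lift_fst _ _ _)
  have r2 : Ψ ≫ pullback.fst (X ⊗ Z).hom g ≫ pullback.snd X.hom Z.hom = pullback.snd X.hom q ≫ pullback.fst Z.hom g :=
    (pullback.lift_fst_assoc _ _ _ _).trans (pullback.lift_snd _ _ _)
  have r3 : Ψ ≫ pullback.snd (X ⊗ Z).hom g = pullback.snd X.hom q ≫ pullback.snd Z.hom g := pullback.lift_snd _ _ _
  have h1 : Φ ≫ Ψ = 𝟙 _ := by
    refine pullback.hom_ext (pullback.hom_ext ?_ ?_) ?_
    · exact ((Category.assoc _ _ _).trans (Category.assoc _ _ _)).trans ((congrArg (Φ ≫ ·) r1).trans p1) |>.trans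
        (Category.id_comp _ |>.symm.trans (Category.assoc _ _ _).symm)
    · exact ((Category.assoc _ _ _).trans (Category.assoc _ _ _)).trans ((congrArg (Φ ≫ ·) r2).trans p2) |>.trans
        (Category.id_comp _ |>.symm.trans (Category.assoc _ _ _).symm)
    · rw [Category.assoc, r3, p3]; exact (Category.id_comp _).symm
  have h2 : Ψ ≫ Φ = 𝟙 _ := by
    refine pullback.hom_ext ?_ (pullback.hom_ext ?_ ?_)
    · rw [Category.assoc, p1, r1, Category.id_comp]
    · simp only [Category.assoc, Category.id_comp]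
      rw [p2, r2]
    · simp only [Category.assoc, Category.id_comp]
      rw [p3, r3]
  haveI : IsIso Φ := ⟨Ψ, h1, h2⟩
  have h := preimage_openImm Φ (hU _ q)
  rw [← Scheme.Hom.comp_preimage] at h ⊢
  rw [show pullback.fst (X ⊗ Z).hom g ≫ (CartesianMonoidalCategory.fst X Z).left = Φ ≫ pullback.fst X.hom q from
    (pullback.lift_fst _ _ _).symm]
  exact h

variable {H : Over S} [GrpObj H]

theorem isIso_of_ker_eq_bot {X Y : Scheme.{u}} (e : X ⟶ Y) [IsClosedImmersion e] (h : e.ker = ⊥) : IsIso e := by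
  let s := IsClosedImmersion.lift e (𝟙 Y) (by rw [h]; exact bot_le)
  have hs : s ≫ e = 𝟙 Y := IsClosedImmersion.lift_fac _ _ _
  exact ⟨s, by rw [← cancel_mono e, Category.assoc, hs, Category.comp_id, Category.id_comp], hs⟩

set_option maxHeartbeats 1000000 in
/-- Maps into a group scheme which agree on a universally schematically dense open agree. -/
theorem UD.ext {X : Over S} {W : X.left.Opens} (hW : UD W) {a b : X ⟶ H} (h : inclU W ≫ a = inclU W ≫ b) :
    a = b := by
  let d : X ⟶ H := a * b⁻¹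
  suffices hd : d = 1 from mul_inv_eq_one.mp hd
  have hdW : inclU W ≫ d = 1 := by
    simp only [d]; rw [MonObj.comp_mul, GrpObj.comp_inv, h, mul_inv_cancel]
  have hsec : (η[H]).left ≫ H.hom = 𝟙 S := Over.w η[H]
  haveI : IsImmersion ((η[H]).left ≫ H.hom) := by
    haveI : IsOpenImmersion (𝟙 S) := inferInstance
    rw [hsec]; exact MorphismProperty.id_mem @IsImmersion S
  haveI : IsImmersion (η[H]).left := IsImmersion.of_comp _ H.hom
  let e : pullback d.left (η[H]).left ⟶ X.left := pullback.fst _ _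
  haveI : IsImmersion e := MorphismProperty.pullback_fst (P := @IsImmersion) _ _ ‹_›
  have hone : (1 : Over.mk (W.ι ≫ X.hom) ⟶ H).left = (W.ι ≫ X.hom) ≫ (η[H]).left := by
    rw [Hom.one_def, Over.comp_left]; simp
  let k : (W : Scheme.{u}) ⟶ pullback d.left (η[H]).left :=
    pullback.lift W.ι (W.ι ≫ X.hom) ((congrArg CategoryTheory.Over.Hom.left hdW).trans hone)
  have hk : k ≫ e = W.ι := pullback.lift_fst _ _ _
  have hsurj : ∀ x : X.left, x ∈ Set.range e := by
    intro x
    let s := X.hom x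
    let fs := S.fromSpecResidueField s
    have hsx : x ∈ Set.range (pullback.fst X.hom fs) := by
      rw [Scheme.Pullback.range_fst]
      show X.hom x ∈ Set.range fs
      rw [Scheme.range_fromSpecResidueField]; exact rfl
    let tη : Spec (S.residueField s) ⟶ pullback H.hom fs :=
      pullback.lift (fs ≫ (η[H]).left) (𝟙 _) (by rw [Category.assoc, hsec, Category.comp_id, Category.id_comp])
    have hT : IsClosed (Set.range tη) :=
      isClosed_range_section (K := S.residueField s) (pullback.snd H.hom fs) tη (pullback.lift_snd _ _ _)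
    let dm := ((Over.pullback fs).map d).left
    have hdm : dm ≫ pullback.fst H.hom fs = pullback.fst X.hom fs ≫ d.left := by
      simp only [dm, Over.pullback_map_left, pullback.lift_fst]
    have hC : ∀ z, (d.left (pullback.fst X.hom fs z) = (η[H]).left s) ↔ z ∈ dm ⁻¹' Set.range tη := by
      intro z
      have hts : ∀ q, pullback.fst H.hom fs (tη q) = (η[H]).left s := fun q => by
        rw [← Scheme.Hom.comp_apply, pullback.lift_fst, Scheme.Hom.comp_apply, Scheme.fromSpecResidueField_apply]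
      constructor
      · intro hz
        refine ⟨IsLocalRing.closedPoint _, ?_⟩
        apply (H.hom.fiberι s).isEmbedding.injective
        show pullback.fst H.hom fs _ = pullback.fst H.hom fs _
        rw [hts]
        exact hz.symm.trans ((congrArg (fun m => m z) hdm).symm.trans (Scheme.Hom.comp_apply _ _ _))
      · rintro ⟨q, hq⟩
        rw [← Scheme.Hom.comp_apply, ← hdm, Scheme.Hom.comp_apply, ← hq, hts]
    have hWC : ∀ z, pullback.fst X.hom fs z ∈ W → z ∈ dm ⁻¹' Set.range tη := by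
      intro z hz
      rw [← hC]
      have h1 := congrArg CategoryTheory.Over.Hom.left hdW
      rw [hone] at h1
      have h2 := congrArg (fun m : (W : Scheme.{u}) ⟶ H.left => m (⟨_, hz⟩ : (W : Scheme.{u}))) h1
      refine h2.trans ?_
      rw [Scheme.Hom.comp_apply]
      congr 1
      show X.hom (pullback.fst X.hom fs z) = s
      rw [← Scheme.Hom.comp_apply, pullback.condition, Scheme.Hom.comp_apply, Scheme.fromSpecResidueField_apply]
    have hall : ∀ z, z ∈ dm ⁻¹' Set.range tη := by
      intro z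
      by_contra hz
      obtain ⟨y, hy, hyW⟩ := nonempty_inf (hW _ fs) (V := ⟨(dm ⁻¹' Set.range tη)ᶜ,
        (hT.preimage dm.continuous).isOpen_compl⟩) hz
      exact hy (hWC y hyW)
    obtain ⟨z, hz⟩ := hsx
    show x ∈ Set.range (pullback.fst d.left (η[H]).left)
    rw [Scheme.Pullback.range_fst]
    exact ⟨s, (((hC z).mpr (hall z)).symm).trans (congrArg (fun y => d.left y) hz)⟩
  haveI : IsClosedImmersion e := IsClosedImmersion.of_isPreimmersion e (by
    rw [Set.eq_univ_of_forall hsurj]; exact isClosed_univ)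
  have hWd : CInt.IsSchematicallyDense W := by
    have h1 := preimage_openImm (inv (pullback.fst X.hom (𝟙 S))) (hW S (𝟙 S))
    rw [← Scheme.Hom.comp_preimage, IsIso.inv_hom_id] at h1
    exact h1
  have hker : e.ker = ⊥ := by
    refine le_bot_iff.mp fun V s hs => ?_
    have h0 : (e.app V).hom s = 0 := by
      have := Scheme.Hom.ker_apply e V
      rw [this] at hs
      exact hs
    show s ∈ (⊥ : Ideal _)
    rw [Ideal.mem_bot]
    refine hWd V.1 ?_
    rw [map_zero]
    have h1 : ((k ≫ e).app V.1).hom s = 0 := by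
      rw [Scheme.Hom.comp_app]
      show (k.app _).hom ((e.app V.1).hom s) = 0
      rw [h0, map_zero]
    have h2 : (W.ι.app V.1).hom s = 0 := by
      rw [Scheme.Hom.congr_app hk.symm V.1]
      show (((W : Scheme.{u}).presheaf.map _).hom) (((k ≫ e).app V.1).hom s) = 0
      rw [h1, map_zero]
    rw [Scheme.Opens.ι_app] at h2
    have hle : V.1 ⊓ W ≤ W.ι ''ᵁ (W.ι ⁻¹ᵁ V.1) := fun w hw => ⟨⟨w, hw.2⟩, hw.1, rfl⟩
    have h3 := congrArg (X.left.presheaf.map (homOfLE hle).op).hom h2
    have hle1 : W.ι ''ᵁ (W.ι ⁻¹ᵁ V.1) ≤ V.1 := fun w hw => by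
      obtain ⟨v, hv, rfl⟩ := hw
      exact hv
    rw [show (homOfLE (inf_le_left : V.1 ⊓ W ≤ V.1)).op = (homOfLE hle1).op ≫ (homOfLE hle).op from rfl,
      Functor.map_comp, CommRingCat.comp_apply]
    exact h3.trans (map_zero (X.left.presheaf.map (homOfLE hle).op).hom)
  haveI := isIso_of_ker_eq_bot e hker
  refine Over.OverMorphism.ext ?_
  rw [← cancel_epi e, Hom.one_def, Over.comp_left]
  show e ≫ d.left = e ≫ (toUnit X).left ≫ (η[H]).left
  have hcond : e ≫ d.left = pullback.snd _ _ ≫ (η[H]).left := pullback.condition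
  rw [hcond, ← Category.assoc]
  congr 1
  rw [show (toUnit X).left = X.hom by simp, show X.hom = d.left ≫ H.hom from (Over.w d).symm, reassoc_of% hcond, hsec]
  exact (Category.comp_id _).symm

end Groth.Agent.Deform.UDense
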