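import Groth.Agent.Deform.UDense.Basic

/-! Extension of birational homomorphisms of group schemes. -/

set_option autoImplicit false
set_option linter.style.haveILetI false
set_option linter.unusedSectionVars false

universe u

open CategoryTheory CategoryTheory.Limits MonoidalCategory CartesianMonoidalCategory MonObj GrpObj AlgebraicGeometry

attribute [local instance] CategoryTheory.Hom.monoid CategoryTheory.Hom.group

namespace Groth.Agent.Deform.UDense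

variable {S : Scheme.{u}} {G H : Over S} [GrpObj G] [GrpObj H]

/-- Density of the preimage of an open along a projection after an isomorphism. -/
theorem UD.preimage_split {X Y Z : Over S} {V : X.left.Opens} (hV : UD V) (e : Y ⟶ X ⊗ Z) [IsIso e] :
    UD ((e ≫ CartesianMonoidalCategory.fst X Z).left ⁻¹ᵁ V) := by
  haveI : IsIso e.left := inferInstanceAs (IsIso ((Over.forget S).map e))
  have h := (hV.fst Z).preimage e
  rw [Over.comp_left, Scheme.Hom.comp_preimage]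
  exact h

/-! ### Four coordinates -/

/-- The first coordinate. -/
noncomputable def cg : ((G ⊗ G) ⊗ G) ⊗ G ⟶ G := fst _ _ ≫ fst _ _ ≫ fst _ _
/-- The second coordinate. -/
noncomputable def cx : ((G ⊗ G) ⊗ G) ⊗ G ⟶ G := fst _ _ ≫ fst _ _ ≫ snd _ _
/-- The third coordinate. -/
noncomputable def cy : ((G ⊗ G) ⊗ G) ⊗ G ⟶ G := fst _ _ ≫ snd _ _
/-- The fourth coordinate. -/
noncomputable def cz : ((G ⊗ G) ⊗ G) ⊗ G ⟶ G := snd _ _
/-- The auxiliary coordinate. -/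
noncomputable def cw : ((G ⊗ G) ⊗ G) ⊗ G ⟶ G := cy⁻¹ * cx * cz

theorem ud_coord {V : (G ⊗ G).left.Opens} (hV : UD V)
    (a b c d : ((G ⊗ G) ⊗ G) ⊗ G ⟶ G) (g x y z : (G ⊗ G) ⊗ (G ⊗ G) ⟶ G)
    (hg : lift (lift (lift g x) y) z ≫ a = fst _ _ ≫ fst G G) (hx : lift (lift (lift g x) y) z ≫ b = fst _ _ ≫ snd G G)
    (hy : lift (lift (lift g x) y) z ≫ c = snd _ _ ≫ fst G G) (hz : lift (lift (lift g x) y) z ≫ d = snd _ _ ≫ snd G G)
    (ha : lift (lift a b) (lift c d) ≫ g = cg) (hb : lift (lift a b) (lift c d) ≫ x = cx)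
    (hc : lift (lift a b) (lift c d) ≫ y = cy) (hd : lift (lift a b) (lift c d) ≫ z = cz) :
    UD ((lift a b).left ⁻¹ᵁ V) := by
  haveI : IsIso (lift (lift a b) (lift c d)) := by
    refine ⟨lift (lift (lift g x) y) z, ?_, ?_⟩
    · simp only [comp_lift, ha, hb, hc, hd]
      ext <;> simp [cg, cx, cy, cz]
    · simp only [comp_lift, hg, hx, hy, hz]
      ext <;> simp
  have h := UD.preimage_split (Z := G ⊗ G) hV (lift (lift a b) (lift c d))
  rwa [lift_fst] at h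

/-- The four relation opens are universally schematically dense. -/
theorem ud_four {V : (G ⊗ G).left.Opens} (hV : UD V) :
    UD ((lift (cg * cx) cz : ((G ⊗ G) ⊗ G) ⊗ G ⟶ G ⊗ G).left ⁻¹ᵁ V) ∧
    UD ((lift (cg * cy) cw : ((G ⊗ G) ⊗ G) ⊗ G ⟶ G ⊗ G).left ⁻¹ᵁ V) ∧
    UD ((lift cx cz : ((G ⊗ G) ⊗ G) ⊗ G ⟶ G ⊗ G).left ⁻¹ᵁ V) ∧
    UD ((lift cy cw : ((G ⊗ G) ⊗ G) ⊗ G ⟶ G ⊗ G).left ⁻¹ᵁ V) := by
  let A : (G ⊗ G) ⊗ (G ⊗ G) ⟶ G := fst _ _ ≫ fst _ _
  let B : (G ⊗ G) ⊗ (G ⊗ G) ⟶ G := fst _ _ ≫ snd _ _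
  let C : (G ⊗ G) ⊗ (G ⊗ G) ⟶ G := snd _ _ ≫ fst _ _
  let D : (G ⊗ G) ⊗ (G ⊗ G) ⟶ G := snd _ _ ≫ snd _ _
  refine ⟨ud_coord hV (cg * cx) cz cg cy C (C⁻¹ * A) D B ?_ ?_ ?_ ?_ ?_ ?_ ?_ ?_,
    ud_coord hV (cg * cy) cw cg cx C D (C⁻¹ * A) (D⁻¹ * C⁻¹ * A * B) ?_ ?_ ?_ ?_ ?_ ?_ ?_ ?_,
    ud_coord hV cx cz cg cy C A D B ?_ ?_ ?_ ?_ ?_ ?_ ?_ ?_,
    ud_coord hV cy cw cg cx C D A (D⁻¹ * A * B) ?_ ?_ ?_ ?_ ?_ ?_ ?_ ?_⟩
  all_goals simp [cg, cx, cy, cz, cw, A, B, C, D, MonObj.comp_mul, GrpObj.comp_inv, _root_.mul_assoc]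

/-! ### Values -/

variable {U : G.left.Opens} (fbar : Over.mk (U.ι ≫ G.hom) ⟶ H)

/-- The value at a point of the open. -/
noncomputable def val {Y : Over S} (P : Y ⟶ G) (h : ∀ y, P.left y ∈ U) : Y ⟶ H :=
  (exists_lift_inclU P U h).choose ≫ fbar

theorem val_eq {Y : Over S} (P : Y ⟶ G) (h : ∀ y, P.left y ∈ U) (c : Y ⟶ Over.mk (U.ι ≫ G.hom))
    (hc : c ≫ inclU U = P) : val fbar P h = c ≫ fbar := by
  rw [val, show (exists_lift_inclU P U h).choose = c by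
    rw [← cancel_mono (inclU U), (exists_lift_inclU P U h).choose_spec, hc]]

theorem comp_val {Y Y' : Over S} (q : Y' ⟶ Y) (P : Y ⟶ G) (h : ∀ y, P.left y ∈ U) (P' : Y' ⟶ G)
    (h' : ∀ y, P'.left y ∈ U) (e : q ≫ P = P') : q ≫ val fbar P h = val fbar P' h' := by
  rw [val_eq fbar P' h' (q ≫ (exists_lift_inclU P U h).choose) (by
    rw [Category.assoc, (exists_lift_inclU P U h).choose_spec, e]), val, Category.assoc]

variable (V : (G ⊗ G).left.Opens)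

/-- The birational homomorphism property. -/
structure IsBir : Prop where
  fst_le : V ≤ (fst G G).left ⁻¹ᵁ U
  snd_le : V ≤ (snd G G).left ⁻¹ᵁ U
  mul_le : V ≤ μ[G].left ⁻¹ᵁ U
  rel : ∀ (X : Over S) (a b : X ⟶ Over.mk (U.ι ≫ G.hom)),
    (∀ y, (lift (a ≫ inclU U) (b ≫ inclU U)).left y ∈ V) →
    ∃ c : X ⟶ Over.mk (U.ι ≫ G.hom), c ≫ inclU U = (a ≫ inclU U) * (b ≫ inclU U) ∧
      c ≫ fbar = (a ≫ fbar) * (b ≫ fbar)

variable {fbar V}

theorem IsBir.mem (hb : IsBir fbar V) {Y : Over S} {P Q : Y ⟶ G} (h : ∀ y, (lift P Q).left y ∈ V) :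
    (∀ y, P.left y ∈ U) ∧ (∀ y, Q.left y ∈ U) ∧ (∀ y, (P * Q).left y ∈ U) := by
  refine ⟨fun y => ?_, fun y => ?_, fun y => ?_⟩
  · rw [show P = lift P Q ≫ fst G G from (lift_fst _ _).symm, Over.comp_left, Scheme.Hom.comp_apply]
    exact hb.fst_le (h y)
  · rw [show Q = lift P Q ≫ snd G G from (lift_snd _ _).symm, Over.comp_left, Scheme.Hom.comp_apply]
    exact hb.snd_le (h y)
  · rw [Hom.mul_def, Over.comp_left, Scheme.Hom.comp_apply]
    exact hb.mul_le (h y)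

theorem IsBir.val_mul (hb : IsBir fbar V) {Y : Over S} {P Q R : Y ⟶ G} (hP : ∀ y, P.left y ∈ U)
    (hQ : ∀ y, Q.left y ∈ U) (hR : ∀ y, R.left y ∈ U) (h : ∀ y, (lift P Q).left y ∈ V) (e : P * Q = R) :
    val fbar R hR = val fbar P hP * val fbar Q hQ := by
  obtain ⟨a, ha⟩ := exists_lift_inclU P U hP
  obtain ⟨b, hb'⟩ := exists_lift_inclU Q U hQ
  obtain ⟨c, hc, hc'⟩ := hb.rel Y a b (by rw [ha, hb']; exact h)
  rw [val_eq fbar R hR c (by rw [hc, ha, hb', e]), val_eq fbar P hP a ha, val_eq fbar Q hQ b hb', hc']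

set_option maxHeartbeats 1000000 in
/-- Independence of the auxiliary point. -/
theorem IsBir.indep (hb : IsBir fbar V) (hV : UD V) {T : Over S} (g x y : T ⟶ G)
    (hx : ∀ t, x.left t ∈ U) (hgx : ∀ t, (g * x).left t ∈ U) (hy : ∀ t, y.left t ∈ U)
    (hgy : ∀ t, (g * y).left t ∈ U) :
    val fbar (g * x) hgx * (val fbar x hx)⁻¹ = val fbar (g * y) hgy * (val fbar y hy)⁻¹ := by
  let g3 : (G ⊗ G) ⊗ G ⟶ G := fst _ _ ≫ fst G G
  let x3 : (G ⊗ G) ⊗ G ⟶ G := fst _ _ ≫ snd G G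
  let y3 : (G ⊗ G) ⊗ G ⟶ G := snd _ _
  let O : ((G ⊗ G) ⊗ G).left.Opens :=
    x3.left ⁻¹ᵁ U ⊓ (g3 * x3).left ⁻¹ᵁ U ⊓ (y3.left ⁻¹ᵁ U ⊓ (g3 * y3).left ⁻¹ᵁ U)
  let O4 : (((G ⊗ G) ⊗ G) ⊗ G).left.Opens := (fst ((G ⊗ G) ⊗ G) G).left ⁻¹ᵁ O
  let j : Over.mk (O4.ι ≫ (((G ⊗ G) ⊗ G) ⊗ G).hom) ⟶ ((G ⊗ G) ⊗ G) ⊗ G := inclU O4
  have hO : ∀ v, (fst ((G ⊗ G) ⊗ G) G).left (j.left v) ∈ O := fun v =>
    (Subtype.mem (show ↥(O4 : Scheme.{u}) from v) : O4.ι v ∈ O4)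
  have jm : ∀ (P : (G ⊗ G) ⊗ G ⟶ G) (P' : ((G ⊗ G) ⊗ G) ⊗ G ⟶ G), fst _ _ ≫ P = P' →
      (∀ o ∈ O, P.left o ∈ U) → ∀ v, (j ≫ P').left v ∈ U := by
    intro P P' e hP v
    rw [← e, ← Category.assoc, Over.comp_left, Scheme.Hom.comp_apply, Over.comp_left, Scheme.Hom.comp_apply]
    exact hP _ (hO v)
  have jx := jm x3 cx rfl fun o ho => ho.1.1
  have jy := jm y3 cy rfl fun o ho => ho.2.1
  have jgx := jm (g3 * x3) (cg * cx) (by rw [MonObj.comp_mul]; rfl) fun o ho => ho.1.2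
  have jgy := jm (g3 * y3) (cg * cy) (by rw [MonObj.comp_mul]; rfl) fun o ho => ho.2.2
  let t₀ : T ⟶ ((G ⊗ G) ⊗ G) ⊗ G := lift (lift (lift g x) y) 1
  have e1 : t₀ ≫ cg = g := by simp [t₀, cg]
  have e2 : t₀ ≫ cx = x := by simp [t₀, cx]
  have e3 : t₀ ≫ cy = y := by simp [t₀, cy]
  have ht : ∀ v, t₀.left v ∈ O4 := by
    intro v
    have c : ∀ (P : (G ⊗ G) ⊗ G ⟶ G) (Q : T ⟶ G), t₀ ≫ fst _ _ ≫ P = Q → (∀ v, Q.left v ∈ U) →
        P.left ((fst ((G ⊗ G) ⊗ G) G).left (t₀.left v)) ∈ U := by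
      intro P Q e hQ
      rw [← Scheme.Hom.comp_apply, ← Scheme.Hom.comp_apply, ← Over.comp_left, ← Over.comp_left, e]
      exact hQ v
    exact ⟨⟨c x3 x e2 hx, c (g3 * x3) (g * x) (by
        rw [MonObj.comp_mul, MonObj.comp_mul]; exact congrArg₂ (· * ·) e1 e2) hgx⟩,
      c y3 y e3 hy, c (g3 * y3) (g * y) (by
        rw [MonObj.comp_mul, MonObj.comp_mul]; exact congrArg₂ (· * ·) e1 e3) hgy⟩
  obtain ⟨t, ht'⟩ := exists_lift_inclU t₀ O4 ht
  suffices key : val fbar (j ≫ (cg * cx)) jgx * (val fbar (j ≫ cx) jx)⁻¹ =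
      val fbar (j ≫ (cg * cy)) jgy * (val fbar (j ≫ cy) jy)⁻¹ by
    have k : t ≫ (val fbar (j ≫ (cg * cx)) jgx * (val fbar (j ≫ cx) jx)⁻¹) =
        t ≫ (val fbar (j ≫ (cg * cy)) jgy * (val fbar (j ≫ cy) jy)⁻¹) := congrArg (t ≫ ·) key
    have ev : ∀ (P : ((G ⊗ G) ⊗ G) ⊗ G ⟶ G) (Q : T ⟶ G), t₀ ≫ P = Q → t ≫ j ≫ P = Q := fun P Q e => by
      rw [← e, ← ht']; exact (Category.assoc _ _ _).symm
    rw [MonObj.comp_mul, GrpObj.comp_inv, MonObj.comp_mul t (val fbar _ jgy), GrpObj.comp_inv] at k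
    rw [comp_val fbar t _ jgx (g * x) hgx (ev _ _ (by rw [MonObj.comp_mul, e1, e2])),
      comp_val fbar t _ jx x hx (ev _ _ e2),
      comp_val fbar t _ jgy (g * y) hgy (ev _ _ (by rw [MonObj.comp_mul, e1, e3])),
      comp_val fbar t _ jy y hy (ev _ _ e3)] at k
    exact k
  obtain ⟨d1, d2, d3, d4⟩ := ud_four hV
  refine (((d1.preimage j).inf (d2.preimage j)).inf ((d3.preimage j).inf (d4.preimage j))).ext ?_
  generalize hW : ((j.left ⁻¹ᵁ _ ⊓ j.left ⁻¹ᵁ _) ⊓ (j.left ⁻¹ᵁ _ ⊓ j.left ⁻¹ᵁ _)) = W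
  have hmemW : ∀ v, (inclU W).left v ∈ W := fun v => Subtype.mem (show ↥(W : Scheme.{u}) from v)
  generalize hh : inclU W ≫ j = h
  have inV : ∀ (P Q : ((G ⊗ G) ⊗ G) ⊗ G ⟶ G), W ≤ j.left ⁻¹ᵁ ((lift P Q).left ⁻¹ᵁ V) →
      ∀ v, (lift (h ≫ P) (h ≫ Q)).left v ∈ V := by
    intro P Q hle v
    rw [← comp_lift, Over.comp_left, Scheme.Hom.comp_apply, ← hh, Over.comp_left, Scheme.Hom.comp_apply]
    exact hle (hmemW v)
  have in1 := inV (cg * cx) cz (hW ▸ inf_le_left.trans inf_le_left)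
  have in2 := inV (cg * cy) cw (hW ▸ inf_le_left.trans inf_le_right)
  have in3 := inV cx cz (hW ▸ inf_le_right.trans inf_le_left)
  have in4 := inV cy cw (hW ▸ inf_le_right.trans inf_le_right)
  have m1 := hb.mem in1
  have m2 := hb.mem in2
  have m3 := hb.mem in3
  have m4 := hb.mem in4
  have r1 := hb.val_mul m1.1 m1.2.1 m1.2.2 in1 rfl
  have r2 := hb.val_mul m2.1 m2.2.1 m1.2.2 in2 (by
    simp only [cw, MonObj.comp_mul, GrpObj.comp_inv]
    group)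
  have r3 := hb.val_mul m3.1 m3.2.1 m3.2.2 in3 rfl
  have r4 := hb.val_mul m4.1 m4.2.1 m3.2.2 in4 (by
    simp only [cw, MonObj.comp_mul, GrpObj.comp_inv]
    group)
  have ev : ∀ (P : ((G ⊗ G) ⊗ G) ⊗ G ⟶ G), inclU W ≫ j ≫ P = h ≫ P := fun P => by
    rw [← hh, Category.assoc]
  rw [MonObj.comp_mul, GrpObj.comp_inv, MonObj.comp_mul (inclU W) (val fbar _ jgy), GrpObj.comp_inv,
    comp_val fbar _ _ jgx _ m1.1 (ev _), comp_val fbar _ _ jx _ m3.1 (ev _),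
    comp_val fbar _ _ jgy _ m2.1 (ev _), comp_val fbar _ _ jy _ m4.1 (ev _)]
  have eA := eq_mul_inv_iff_mul_eq.mpr (r1.symm.trans r2)
  have eB := eq_mul_inv_iff_mul_eq.mpr (r3.symm.trans r4)
  rw [eA, eB]
  group

set_option maxHeartbeats 1000000 in
/-- **Extension of a birational homomorphism.** -/
theorem exists_unique_extend [Flat G.hom] [LocallyOfFinitePresentation G.hom]
    (hU : UD U) (hV : UD V) (hb : IsBir fbar V) : ∃! f : G ⟶ H, IsMonHom f ∧ inclU U ≫ f = fbar := by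
  let C : (G ⊗ G).left.Opens := (snd G G).left ⁻¹ᵁ U ⊓ (fst G G * snd G G).left ⁻¹ᵁ U
  let iC : Over.mk (C.ι ≫ (G ⊗ G).hom) ⟶ G ⊗ G := inclU C
  let gC := iC ≫ fst G G
  let xC := iC ≫ snd G G
  have hxC : ∀ y, xC.left y ∈ U := fun y => by
    show (iC ≫ snd G G).left y ∈ U
    rw [Over.comp_left, Scheme.Hom.comp_apply]
    exact (Subtype.mem (show ↥(C : Scheme.{u}) from y) : C.ι y ∈ C).1
  have hmC : ∀ y, (gC * xC).left y ∈ U := fun y => by
    show ((iC ≫ fst G G) * (iC ≫ snd G G)).left y ∈ U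
    rw [← MonObj.comp_mul, Over.comp_left, Scheme.Hom.comp_apply]
    exact (Subtype.mem (show ↥(C : Scheme.{u}) from y) : C.ι y ∈ C).2
  let F0 : Over.mk (C.ι ≫ (G ⊗ G).hom) ⟶ H := val fbar (gC * xC) hmC * (val fbar xC hxC)⁻¹
  haveI : Flat gC.left := inferInstanceAs (Flat (C.ι ≫ pullback.fst G.hom G.hom))
  haveI : LocallyOfFinitePresentation gC.left := by
    show LocallyOfFinitePresentation (C.ι ≫ pullback.fst G.hom G.hom)
    infer_instance
  haveI : Surjective gC.left := by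
    refine ⟨fun z₀ => ?_⟩
    let T : Over S := Over.mk (G.left.fromSpecResidueField z₀ ≫ G.hom)
    let g : T ⟶ G := Over.homMk (G.left.fromSpecResidueField z₀) rfl
    let A : (G ⊗ T).left.Opens := (fst G T).left ⁻¹ᵁ U
    have hA : CInt.IsSchematicallyDense A := hU T.left T.hom
    let φ : G ⊗ T ⟶ G ⊗ T := lift ((snd G T ≫ g) * fst G T) (snd G T)
    let φ' : G ⊗ T ⟶ G ⊗ T := lift ((snd G T ≫ g)⁻¹ * fst G T) (snd G T)
    haveI : IsIso φ := by
      refine ⟨φ', ?_, ?_⟩ <;>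
      · apply CartesianMonoidalCategory.hom_ext
        · simp [φ, φ', MonObj.comp_mul, GrpObj.comp_inv]
        · simp [φ, φ']
    haveI : IsIso φ.left := inferInstanceAs (IsIso ((Over.forget S).map φ))
    have hB := preimage_openImm φ.left hA
    let o : T ⟶ G ⊗ T := lift 1 (𝟙 T)
    obtain ⟨y, -, hy1, hy2⟩ := nonempty_inf (AlgSpDec.SchDenseFacts.inf hA hB) (V := (⊤ : (G ⊗ T).left.Opens))
      (x := o.left (IsLocalRing.closedPoint (G.left.residueField z₀))) trivial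
    let m : G ⊗ T ⟶ G ⊗ G := lift (snd G T ≫ g) (fst G T)
    have hm : m.left y ∈ C := by
      refine ⟨?_, ?_⟩
      · show (snd G G).left (m.left y) ∈ U
        rw [← Scheme.Hom.comp_apply, ← Over.comp_left, lift_snd]
        exact hy1
      · show (fst G G * snd G G).left (m.left y) ∈ U
        rw [← Scheme.Hom.comp_apply, ← Over.comp_left, MonObj.comp_mul, lift_fst, lift_snd,
          show (snd G T ≫ g) * fst G T = φ ≫ fst G T from (lift_fst _ _).symm, Over.comp_left, Scheme.Hom.comp_apply]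
        exact hy2
    refine ⟨⟨m.left y, hm⟩, ?_⟩
    show (fst G G).left (m.left y) = z₀
    rw [← Scheme.Hom.comp_apply, ← Over.comp_left, lift_fst, Over.comp_left, Scheme.Hom.comp_apply]
    exact Scheme.fromSpecResidueField_apply _ _
  have hcov : FpqcDescLib.Covers gC.left := covers_fppf gC.left
  obtain ⟨f, hf, -⟩ := hcov.over_desc F0 fun T a b hab => by
    have mem : ∀ (c : T ⟶ Over.mk (C.ι ≫ (G ⊗ G).hom)) (P : Over.mk (C.ι ≫ (G ⊗ G).hom) ⟶ G),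
        (∀ v, P.left v ∈ U) → ∀ v, (c ≫ P).left v ∈ U := fun c P hP v => by
      rw [Over.comp_left, Scheme.Hom.comp_apply]; exact hP _
    have ga : a ≫ (gC * xC) = (a ≫ gC) * (a ≫ xC) := MonObj.comp_mul _ _ _
    have gb : b ≫ (gC * xC) = (a ≫ gC) * (b ≫ xC) := (MonObj.comp_mul _ _ _).trans (by rw [hab])
    simp only [F0]
    rw [MonObj.comp_mul, GrpObj.comp_inv, MonObj.comp_mul b (val fbar _ hmC), GrpObj.comp_inv,
      comp_val fbar a _ hmC _ (ga ▸ mem a _ hmC) ga, comp_val fbar a _ hxC _ (mem a _ hxC) rfl,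
      comp_val fbar b _ hmC _ (gb ▸ mem b _ hmC) gb, comp_val fbar b _ hxC _ (mem b _ hxC) rfl]
    exact hb.indep hV _ _ _ _ _ _ _
  have hfU : inclU U ≫ f = fbar := by
    let C1 : (G ⊗ G).left.Opens := C ⊓ (fst G G).left ⁻¹ᵁ U
    let j1 : Over.mk (C1.ι ≫ (G ⊗ G).hom) ⟶ G ⊗ G := inclU C1
    have hj1 : ∀ v, j1.left v ∈ C1 := fun v => Subtype.mem (show ↥(C1 : Scheme.{u}) from v)
    obtain ⟨k, hk⟩ := exists_lift_inclU j1 C fun v => (hj1 v).1
    obtain ⟨q1, hq1⟩ := exists_lift_inclU (j1 ≫ fst G G) U fun v => by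
      rw [Over.comp_left, Scheme.Hom.comp_apply]; exact (hj1 v).2
    have hsq : q1 ≫ inclU U = k ≫ gC := by
      rw [hq1]; show _ = k ≫ inclU C ≫ fst G G; rw [reassoc_of% hk]
    have hpb : IsPullback q1 k (inclU U) gC := by
      haveI : Mono j1 := inferInstanceAs (Mono (inclU C1))
      haveI : Mono k := mono_of_mono_fac hk
      have ex : ∀ s : PullbackCone (inclU U) gC, ∃ l : s.pt ⟶ Over.mk (C1.ι ≫ (G ⊗ G).hom), l ≫ j1 = s.snd ≫ iC := by
        intro s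
        refine exists_lift_inclU (s.snd ≫ iC) C1 fun v => ⟨?_, ?_⟩
        · rw [Over.comp_left, Scheme.Hom.comp_apply]
          exact Subtype.mem (show ↥(C : Scheme.{u}) from s.snd.left v)
        · show (fst G G).left ((s.snd ≫ iC).left v) ∈ U
          rw [← Scheme.Hom.comp_apply, ← Over.comp_left, show (s.snd ≫ iC) ≫ fst G G = s.fst ≫ inclU U from
            (Category.assoc _ _ _).trans s.condition.symm, Over.comp_left, Scheme.Hom.comp_apply]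
          exact Subtype.mem (show ↥(U : Scheme.{u}) from s.fst.left v)
      choose l hl using ex
      refine IsPullback.of_isLimit' ⟨hsq⟩ (PullbackCone.IsLimit.mk _ l (fun s => ?_) (fun s => ?_) fun s m _ h2 => ?_)
      · rw [← cancel_mono (inclU U), Category.assoc, hq1, reassoc_of% (hl s)]
        exact s.condition.symm
      · rw [← cancel_mono (inclU C), Category.assoc, hk]
        exact hl s
      · rw [← cancel_mono k, h2, ← cancel_mono (inclU C), Category.assoc, hk]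
        exact (hl s).symm
    haveI := (hcov.over_pullback (inclU U) _ k hpb).over_epi
    rw [← cancel_epi q1, reassoc_of% hsq, hf]
    refine (hV.preimage j1 : UD (j1.left ⁻¹ᵁ V)).ext ?_
    generalize hi' : inclU (j1.left ⁻¹ᵁ V) ≫ j1 = i
    have hi : ∀ v, (lift (i ≫ fst G G) (i ≫ snd G G)).left v ∈ V := fun v => by
      rw [← comp_lift, lift_fst_snd, Category.comp_id, ← hi', Over.comp_left, Scheme.Hom.comp_apply]
      exact Subtype.mem (show ↥((j1.left ⁻¹ᵁ V) : Scheme.{u}) from v)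
    obtain ⟨h1, h2, h3⟩ := hb.mem hi
    have eC : ∀ P : G ⊗ G ⟶ G, (inclU (j1.left ⁻¹ᵁ V) ≫ k) ≫ iC ≫ P = i ≫ P := fun P => by
      show (inclU (j1.left ⁻¹ᵁ V) ≫ k) ≫ inclU C ≫ P = _
      rw [Category.assoc, reassoc_of% hk, reassoc_of% hi']
    simp only [F0]
    rw [← Category.assoc, MonObj.comp_mul, GrpObj.comp_inv,
      comp_val fbar _ _ hmC _ h3 (by rw [MonObj.comp_mul, eC, eC]), comp_val fbar _ _ hxC _ h2 (eC _),
      hb.val_mul h1 h2 h3 hi rfl, mul_inv_cancel_right,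
      val_eq fbar _ h1 (inclU (j1.left ⁻¹ᵁ V) ≫ q1) (by rw [Category.assoc, hq1, ← Category.assoc, hi']),
      Category.assoc]
  have hfmul : μ[G] ≫ f = (fst G G ≫ f) * (snd G G ≫ f) := by
    refine hV.ext ?_
    have hi : ∀ v, (lift (inclU V ≫ fst G G) (inclU V ≫ snd G G)).left v ∈ V := fun v => by
      rw [← comp_lift, lift_fst_snd, Category.comp_id]
      exact Subtype.mem (show ↥(V : Scheme.{u}) from v)
    obtain ⟨h1, h2, h3⟩ := hb.mem hi
    have e : ∀ (P : Over.mk (V.ι ≫ (G ⊗ G).hom) ⟶ G) (hP : ∀ v, P.left v ∈ U), P ≫ f = val fbar P hP :=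
      fun P hP => by
        obtain ⟨c, hc⟩ := exists_lift_inclU P U hP
        rw [val_eq fbar P hP c hc, ← hfU, ← Category.assoc, hc]
    have hμ : μ[G] = fst G G * snd G G := by rw [Hom.mul_def, lift_fst_snd, Category.id_comp]
    rw [MonObj.comp_mul, ← Category.assoc, ← Category.assoc, ← Category.assoc, hμ, MonObj.comp_mul, e _ h1, e _ h2,
      e _ h3, hb.val_mul h1 h2 h3 hi rfl]
  refine ⟨f, ⟨⟨?_, ?_⟩, hfU⟩, fun f' hf' => hU.ext (hf'.2.trans hfU.symm)⟩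
  · have h := congrArg (lift η[G] η[G] ≫ ·) hfmul
    simp only [MonObj.comp_mul, lift_fst_assoc, lift_snd_assoc] at h
    have h1 : lift η[G] η[G] ≫ μ[G] = η[G] := by
      show η[G] * η[G] = η[G]
      rw [show η[G] = (1 : 𝟙_ (Over S) ⟶ G) by rw [Hom.one_def, toUnit_unique (toUnit _) (𝟙 _), Category.id_comp],
        _root_.one_mul]
    rw [← Category.assoc, h1] at h
    rw [left_eq_mul.mp h, Hom.one_def, toUnit_unique (toUnit _) (𝟙 _), Category.id_comp]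
  · rw [hfmul, Hom.mul_def]
    congr 1

end Groth.Agent.Deform.UDense
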